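import Mathlib.Tactic
import Mathlib.Analysis.SpecialFunctions.Trigonometric.Basic
import Mathlib.Analysis.SpecialFunctions.Complex.Circle
import Mathlib.LinearAlgebra.Vandermonde
import Mathlib.Data.Fin.Tuple.Sort
import Mathlib.Algebra.BigOperators.Fin
import Mathlib.GroupTheory.Perm.Sign

/-! Sums of products of root-of-unity determinants over strictly decreasing tuples. -/

set_option autoImplicit false

namespace Groth.Agent.H25Verl
open Finset

/-- `exp (2πi q)`. -/
noncomputable def ex (q : ℚ) : ℂ := Complex.exp (2 * Real.pi * Complex.I * (q : ℂ))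

lemma ex_add (p q : ℚ) : ex (p + q) = ex p * ex q := by
  rw [ex, ex, ex, ← Complex.exp_add]; push_cast; ring_nf

lemma ex_zero : ex 0 = 1 := by simp [ex]

lemma ex_ne_zero (q : ℚ) : ex q ≠ 0 := Complex.exp_ne_zero _

lemma ex_eq_one_iff (q : ℚ) : ex q = 1 ↔ ∃ m : ℤ, q = m := by
  rw [ex, Complex.exp_eq_one_iff]
  constructor
  · rintro ⟨n, hn⟩
    refine ⟨n, ?_⟩
    have h0 : (2 * Real.pi * Complex.I : ℂ) ≠ 0 := by simp [Real.pi_ne_zero]
    have : (q : ℂ) = (n : ℂ) := mul_left_cancel₀ h0 (by rw [hn]; ring)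
    exact_mod_cast this
  · rintro ⟨m, rfl⟩
    exact ⟨m, by push_cast; ring⟩

lemma ex_int (m : ℤ) : ex (m : ℚ) = 1 := (ex_eq_one_iff _).2 ⟨m, rfl⟩

lemma ex_sum {ι : Type*} (s : Finset ι) (f : ι → ℚ) : ex (∑ i ∈ s, f i) = ∏ i ∈ s, ex (f i) := by
  classical
  induction s using Finset.induction_on with
  | empty => simp [ex_zero]
  | insert a s ha ih => rw [sum_insert ha, prod_insert ha, ex_add, ih]

lemma ex_nat_mul (n : ℕ) (q : ℚ) : ex (n * q) = ex q ^ n := by
  induction n with
  | zero => simp [ex_zero]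
  | succ n ih => rw [pow_succ, ← ih, ← ex_add]; congr 1; push_cast; ring

variable {r N : ℕ}

lemma sum_ex [NeZero N] (c : ℤ) :
    (∑ x : Fin N, ex ((c : ℚ) * (x : ℕ) / N)) = if (N : ℤ) ∣ c then (N : ℂ) else 0 := by
  have hN : (N : ℚ) ≠ 0 := Nat.cast_ne_zero.2 (NeZero.ne N)
  have e : ∀ x : Fin N, ex ((c : ℚ) * (x : ℕ) / N) = ex ((c : ℚ) / N) ^ (x : ℕ) := fun x => by
    rw [← ex_nat_mul]; congr 1; ring
  simp only [e]
  split_ifs with h
  · obtain ⟨m, rfl⟩ := h
    rw [show (((N : ℤ) * m : ℤ) : ℚ) / N = (m : ℚ) by push_cast; field_simp, ex_int]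
    simp
  · rw [Fin.sum_univ_eq_sum_range (fun i => ex ((c : ℚ) / N) ^ i), geom_sum_eq, ← ex_nat_mul,
      mul_div_cancel₀ _ hN, ex_int, sub_self, zero_div]
    rw [Ne, ex_eq_one_iff]
    rintro ⟨m, hm⟩
    refine h ⟨m, ?_⟩
    rw [div_eq_iff hN] at hm
    rw [mul_comm]
    exact_mod_cast hm

/-- The matrix `e(A_j l_i / N)`. -/
noncomputable def M (N : ℕ) (A l : Fin r → ℤ) : Matrix (Fin r) (Fin r) ℂ :=
  Matrix.of fun i j => ex ((A j * l i : ℤ) / N)

lemma det_M_comm (A l : Fin r → ℤ) : (M N A l).det = (M N l A).det := by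
  rw [← Matrix.det_transpose]
  congr 1
  ext i j
  simp [M, mul_comm]

lemma det_M_perm (A l : Fin r → ℤ) (σ : Equiv.Perm (Fin r)) :
    (M N A (l ∘ σ)).det = (Equiv.Perm.sign σ : ℂ) * (M N A l).det :=
  Matrix.det_permute σ (M N A l)

lemma det_M_add_const (A l : Fin r → ℤ) (a : ℤ) :
    (M N A fun i => l i + a).det = ex (((∑ j, A j) * a : ℤ) / N) * (M N A l).det := by
  have h : (M N A fun i => l i + a) = Matrix.of fun i j => ex ((A j * a : ℤ) / N) * M N A l i j := by
    ext i j
    simp only [M, Matrix.of_apply]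
    rw [← ex_add]
    congr 1
    push_cast; ring
  rw [h, Matrix.det_mul_row, ← ex_sum]
  congr 2
  rw [Finset.sum_mul]
  push_cast
  rw [Finset.sum_div]

lemma det_M_eq_zero (A l : Fin r → ℤ) {i j : Fin r} (hij : i ≠ j) (h : l i = l j) :
    (M N A l).det = 0 :=
  Matrix.det_zero_of_row_eq hij (funext fun _ => by simp [M, h])

lemma det_M_reflect (A l : Fin r → ℤ) (C : ℤ) :
    (M N A fun i => C - l (Fin.rev i)).det =
      (Equiv.Perm.sign (Fin.revPerm : Equiv.Perm (Fin r)) : ℂ) * ex (((∑ j, A j) * C : ℤ) / N) *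
        (M N (fun j => -A j) l).det := by
  have h1 : (M N A fun i => C - l (Fin.rev i)) = M N A ((fun i => -l i + C) ∘ (Fin.revPerm : Equiv.Perm (Fin r))) := by
    ext i j
    simp [M, sub_eq_neg_add]
  have h2 : M N A (fun i => -l i) = M N (fun j => -A j) l := by
    ext i j; simp [M]
  rw [h1, det_M_perm, det_M_add_const, h2]
  ring

/-- The summand. -/
noncomputable def F (N : ℕ) (A B : Fin r → ℤ) (l : Fin r → Fin N) : ℂ :=
  ex (-(((∑ j, A j - ∑ j, B j) * ∑ i, ((l i : ℕ) : ℤ) : ℤ) : ℚ) / (r * N)) *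
    ((M N A fun i => ((l i : ℕ) : ℤ)).det * (M N (fun j => -B j) fun i => ((l i : ℕ) : ℤ)).det)

lemma F_perm (A B : Fin r → ℤ) (l : Fin r → Fin N) (σ : Equiv.Perm (Fin r)) :
    F N A B (l ∘ σ) = F N A B l := by
  have hs : (Equiv.Perm.sign σ : ℂ) * (Equiv.Perm.sign σ : ℂ) = 1 := by
    rcases Int.units_eq_one_or (Equiv.Perm.sign σ) with hs | hs <;> rw [hs] <;> simp
  unfold F
  rw [show (∑ i, (((l ∘ σ) i : ℕ) : ℤ)) = ∑ i, ((l i : ℕ) : ℤ) from
      Equiv.sum_comp σ fun i => ((l i : ℕ) : ℤ),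
    show (fun i => (((l ∘ σ) i : ℕ) : ℤ)) = (fun i => ((l i : ℕ) : ℤ)) ∘ σ from rfl,
    det_M_perm, det_M_perm]
  linear_combination (ex (-(((∑ j, A j - ∑ j, B j) * ∑ i, ((l i : ℕ) : ℤ) : ℤ) : ℚ) / (r * N)) *
    ((M N A fun i => ((l i : ℕ) : ℤ)).det * (M N (fun j => -B j) fun i => ((l i : ℕ) : ℤ)).det)) * hs

lemma F_eq_zero (A B : Fin r → ℤ) (l : Fin r → Fin N) (h : ¬ Function.Injective l) :
    F N A B l = 0 := by
  simp only [Function.Injective, not_forall] at h
  obtain ⟨i, j, hij, hne⟩ := h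
  rw [F, det_M_eq_zero A (fun i => ((l i : ℕ) : ℤ)) hne (by rw [hij])]
  ring

lemma sum_strictAnti (G : (Fin r → Fin N) → ℂ) (hperm : ∀ l (σ : Equiv.Perm (Fin r)), G (l ∘ σ) = G l)
    (hzero : ∀ l, ¬ Function.Injective l → G l = 0) :
    ∑ l : Fin r → Fin N, G l =
      (r.factorial : ℂ) * ∑ s ∈ univ.filter (fun s : Fin r → Fin N => StrictAnti s), G s := by
  classical
  have h1 : ∑ l : Fin r → Fin N, G l = ∑ l ∈ univ.filter (fun l => Function.Injective l), G l :=
    (Finset.sum_filter_of_ne fun l _ h => by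
      by_contra hi; exact h (hzero l hi)).symm
  have h2 : ∑ p ∈ (univ.filter (fun s : Fin r → Fin N => StrictAnti s)) ×ˢ (univ : Finset (Equiv.Perm (Fin r))),
      G (p.1 ∘ p.2) = ∑ l ∈ univ.filter (fun l => Function.Injective l), G l := by
    refine Finset.sum_bij (fun p _ => p.1 ∘ p.2) (fun p hp => ?_) (fun p hp q hq he => ?_)
      (fun l hl => ?_) (fun p _ => rfl)
    · simp only [mem_product, mem_filter, mem_univ, true_and, and_true] at hp
      simp only [mem_filter, mem_univ, true_and]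
      exact hp.injective.comp p.2.injective
    · simp only [mem_product, mem_filter, mem_univ, true_and, and_true] at hp hq
      have hr : Set.range p.1 = Set.range q.1 := by
        rw [← p.2.surjective.range_comp p.1, ← q.2.surjective.range_comp q.1]
        exact congrArg Set.range he
      have hm : p.1 ∘ Fin.rev = q.1 ∘ Fin.rev := by
        refine Set.range_injOn_strictMono
          (fun a b hab => hp (Fin.rev_lt_rev.2 hab)) (fun a b hab => hq (Fin.rev_lt_rev.2 hab)) ?_
        exact (Fin.rev_surjective.range_comp p.1).trans (hr.trans (Fin.rev_surjective.range_comp q.1).symm)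
      have h1 : p.1 = q.1 := funext fun i => by
        simpa using congrFun hm (Fin.rev i)
      refine Prod.ext h1 (Equiv.ext fun i => hp.injective ?_)
      have := congrFun he i
      simpa [h1] using this
    · simp only [mem_filter, mem_univ, true_and] at hl
      refine ⟨(l ∘ Tuple.sort l ∘ Fin.rev,
        ((Fin.revPerm : Equiv.Perm (Fin r)).trans (Tuple.sort l)).symm), ?_, ?_⟩
      · simp only [mem_product, mem_filter, mem_univ, true_and, and_true]
        intro a b hab
        exact ((Tuple.monotone_sort l).strictMono_of_injective (hl.comp (Tuple.sort l).injective))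
          (Fin.rev_lt_rev.2 hab)
      · funext i
        simp [Function.comp]
  rw [h1, ← h2, Finset.sum_product, Finset.mul_sum]
  refine Finset.sum_congr rfl fun s _ => ?_
  simp [hperm, Finset.card_univ, Fintype.card_perm]

/-- Cyclic shift of all entries. -/
def T [NeZero N] : (Fin r → Fin N) ≃ (Fin r → Fin N) :=
  Equiv.piCongrRight fun _ => Equiv.addRight (1 : Fin N)

lemma T_val [NeZero N] (l : Fin r → Fin N) (i : Fin r) :
    (((T l i : Fin N) : ℕ) : ℤ) = ((l i : ℕ) : ℤ) + 1 - if (l i : ℕ) + 1 = N then (N : ℤ) else 0 := by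
  show (((l i + 1 : Fin N) : ℕ) : ℤ) = _
  have hlt := (l i).isLt
  have hv : ((l i + 1 : Fin N) : ℕ) = ((l i : ℕ) + 1) % N := by
    rw [Fin.val_add, Fin.val_one', Nat.add_mod_mod]
  rw [hv]
  split_ifs with h
  · rw [h, Nat.mod_self]; push_cast; omega
  · rw [Nat.mod_eq_of_lt (by omega)]; push_cast; ring

lemma det_shift [NeZero N] (A : Fin r → ℤ) (l : Fin r → Fin N) :
    (M N A fun i => (((T l i : Fin N) : ℕ) : ℤ)).det =
      ex ((∑ j, A j : ℤ) / N) * (M N A fun i => ((l i : ℕ) : ℤ)).det := by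
  have h : (M N A fun i => (((T l i : Fin N) : ℕ) : ℤ)) = M N A fun i => ((l i : ℕ) : ℤ) + 1 := by
    ext i j
    simp only [M, Matrix.of_apply, T_val]
    split_ifs
    · rw [show ((A j * (((l i : ℕ) : ℤ) + 1 - N) : ℤ) : ℚ) / N =
          ((A j * (((l i : ℕ) : ℤ) + 1) : ℤ) : ℚ) / N + ((-A j : ℤ) : ℚ) by
            have hN : (N : ℚ) ≠ 0 := Nat.cast_ne_zero.2 (NeZero.ne N)
            push_cast; field_simp; ring, ex_add, ex_int, mul_one]
    · simp
  rw [h, det_M_add_const, mul_one]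

lemma F_shift [NeZero N] (hr : r ≠ 0) (A B : Fin r → ℤ) (l : Fin r → Fin N) :
    F N A B (T l) = F N A B l *
      ex ((((∑ j, A j - ∑ j, B j) * ((univ.filter fun i => (l i : ℕ) + 1 = N).card : ℤ) : ℤ) : ℚ) / r) := by
  have hN : (N : ℚ) ≠ 0 := Nat.cast_ne_zero.2 (NeZero.ne N)
  have hrq : (r : ℚ) ≠ 0 := Nat.cast_ne_zero.2 hr
  set c : ℤ := ((univ.filter fun i => (l i : ℕ) + 1 = N).card : ℤ) with hc
  have hs : (∑ i, (((T l i : Fin N) : ℕ) : ℤ)) = (∑ i, ((l i : ℕ) : ℤ)) + r - c * N := by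
    simp only [T_val, Finset.sum_sub_distrib, Finset.sum_add_distrib, Finset.sum_ite, hc]
    simp
  unfold F
  rw [hs, det_shift, det_shift, Finset.sum_neg_distrib]
  set SA := ∑ j, A j
  set SB := ∑ j, B j
  set Sl := ∑ i, ((l i : ℕ) : ℤ)
  have he : ex (-(((SA - SB) * (Sl + r - c * N) : ℤ) : ℚ) / (r * N)) *
      (ex ((SA : ℚ) / N) * ex (((-SB : ℤ) : ℚ) / N)) =
      ex (-(((SA - SB) * Sl : ℤ) : ℚ) / (r * N)) * ex ((((SA - SB) * c : ℤ) : ℚ) / r) := by
    rw [← ex_add, ← ex_add, ← ex_add]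
    congr 1
    push_cast
    field_simp
    ring
  linear_combination ((M N A fun i => ((l i : ℕ) : ℤ)).det *
    (M N (fun j => -B j) fun i => ((l i : ℕ) : ℤ)).det) * he

/-- Sum over decreasing tuples through `0`. -/
noncomputable def Z (N : ℕ) (A B : Fin r → ℤ) : ℂ :=
  ∑ s ∈ univ.filter (fun s : Fin r → Fin N => StrictAnti s ∧ ∃ i, (s i : ℕ) = 0), F N A B s

lemma factorial_mul_Z (A B : Fin r → ℤ) :
    (r.factorial : ℂ) * Z N A B = ∑ l : Fin r → Fin N, if ∃ i, (l i : ℕ) = 0 then F N A B l else 0 := by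
  classical
  rw [sum_strictAnti, Z]
  · congr 1
    rw [Finset.sum_filter, Finset.sum_filter]
    refine Finset.sum_congr rfl fun s _ => ?_
    by_cases h1 : StrictAnti s <;> simp [h1]
  · intro l σ
    rw [F_perm]
    congr 1
    exact propext ⟨fun ⟨i, hi⟩ => ⟨σ i, hi⟩, fun ⟨i, hi⟩ => ⟨σ.symm i, by simpa using hi⟩⟩
  · intro l h
    simp [F_eq_zero A B l h]

lemma Z_eq_zero_of_not_dvd [NeZero N] (hr : r ≠ 0) (A B : Fin r → ℤ)
    (h : ¬ (r : ℤ) ∣ ∑ j, A j - ∑ j, B j) : Z N A B = 0 := by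
  classical
  set D := ∑ j, A j - ∑ j, B j with hD
  have hω : ex ((D : ℚ) / r) ≠ 1 := by
    rw [Ne, ex_eq_one_iff]
    rintro ⟨m, hm⟩
    rw [div_eq_iff (Nat.cast_ne_zero.2 hr)] at hm
    exact h ⟨m, by rw [mul_comm]; exact_mod_cast hm⟩
  have e : ∀ l : Fin r → Fin N, F N A B (T l) =
      if ∃ i, (l i : ℕ) + 1 = N then ex ((D : ℚ) / r) * F N A B l else F N A B l := by
    intro l
    rw [F_shift hr]
    split_ifs with hex
    · by_cases hi : Function.Injective l
      · obtain ⟨i, hi'⟩ := hex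
        have : (univ.filter fun i => (l i : ℕ) + 1 = N) = {i} := by
          ext j
          simp only [mem_filter, mem_univ, true_and, mem_singleton]
          exact ⟨fun hj => hi (Fin.ext (by omega)), fun hj => hj ▸ hi'⟩
        rw [this, Finset.card_singleton]
        simp [mul_comm, hD]
      · simp [F_eq_zero A B l hi]
    · have : (univ.filter fun i => (l i : ℕ) + 1 = N) = ∅ := by
        ext j; simp only [mem_filter, mem_univ, true_and, notMem_empty, iff_false]
        exact fun hj => hex ⟨j, hj⟩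
      simp [this, ex_zero]
  have hX : (∑ l : Fin r → Fin N, if ∃ i, (l i : ℕ) + 1 = N then F N A B l else 0) = 0 := by
    have h1 := Equiv.sum_comp (T (r := r) (N := N)) (F N A B)
    rw [← sub_eq_zero, ← Finset.sum_sub_distrib] at h1
    have h2 : ∀ l : Fin r → Fin N, F N A B (T l) - F N A B l =
        (ex ((D : ℚ) / r) - 1) * if ∃ i, (l i : ℕ) + 1 = N then F N A B l else 0 := fun l => by
      rw [e]; split_ifs <;> ring
    simp only [h2] at h1
    rw [← Finset.mul_sum] at h1
    exact (mul_eq_zero.1 h1).resolve_left (sub_ne_zero.2 hω)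
  have h3 := factorial_mul_Z (N := N) A B
  rw [← Equiv.sum_comp (T (r := r) (N := N))] at h3
  have h4 : ∀ l : Fin r → Fin N, (if ∃ i, ((T l i : Fin N) : ℕ) = 0 then F N A B (T l) else 0) =
      ex ((D : ℚ) / r) * if ∃ i, (l i : ℕ) + 1 = N then F N A B l else 0 := fun l => by
    have hiff : (∃ i, ((T l i : Fin N) : ℕ) = 0) ↔ ∃ i, (l i : ℕ) + 1 = N := by
      refine exists_congr fun i => ?_
      have := T_val l i
      have hlt := (l i).isLt
      split_ifs at this <;> omega
    by_cases hex : ∃ i, (l i : ℕ) + 1 = N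
    · rw [if_pos (hiff.2 hex), if_pos hex, e, if_pos hex]
    · rw [if_neg (fun h' => hex (hiff.1 h')), if_neg hex, mul_zero]
  simp only [h4] at h3
  rw [← Finset.mul_sum, hX, mul_zero] at h3
  exact (mul_eq_zero.1 h3).resolve_left (Nat.cast_ne_zero.2 (Nat.factorial_ne_zero r))

lemma sum_all (A B : Fin r → ℤ) [NeZero N] (hAB : ∑ j, A j = ∑ j, B j) :
    ∑ l : Fin r → Fin N, F N A B l = ∑ σ : Equiv.Perm (Fin r), ∑ τ : Equiv.Perm (Fin r),
      (Equiv.Perm.sign σ : ℂ) * (Equiv.Perm.sign τ : ℂ) *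
        ∏ i, if (N : ℤ) ∣ A (σ i) - B (τ i) then (N : ℂ) else 0 := by
  classical
  have hF : ∀ l : Fin r → Fin N, F N A B l = ∑ σ : Equiv.Perm (Fin r), ∑ τ : Equiv.Perm (Fin r),
      (Equiv.Perm.sign σ : ℂ) * (Equiv.Perm.sign τ : ℂ) *
        ∏ i, ex (((A (σ i) - B (τ i) : ℤ) : ℚ) * (l i : ℕ) / N) := by
    intro l
    rw [F, hAB, sub_self, zero_mul, Int.cast_zero, neg_zero, zero_div, ex_zero, one_mul,
      ← Matrix.det_transpose (M N A _), ← Matrix.det_transpose (M N (fun j => -B j) _),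
      Matrix.det_apply', Matrix.det_apply', Finset.sum_mul_sum]
    refine Finset.sum_congr rfl fun σ _ => Finset.sum_congr rfl fun τ _ => ?_
    have : ∀ i, ex (((A (σ i) - B (τ i) : ℤ) : ℚ) * (l i : ℕ) / N) =
        (M N A fun i => ((l i : ℕ) : ℤ)).transpose (σ i) i *
          (M N (fun j => -B j) fun i => ((l i : ℕ) : ℤ)).transpose (τ i) i := fun i => by
      simp only [M, Matrix.transpose_apply, Matrix.of_apply]
      rw [← ex_add]
      congr 1
      push_cast; ring
    simp only [this, Finset.prod_mul_distrib]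
    ring
  simp only [hF]
  rw [Finset.sum_comm]
  refine Finset.sum_congr rfl fun σ _ => ?_
  rw [Finset.sum_comm]
  refine Finset.sum_congr rfl fun τ _ => ?_
  rw [← Finset.mul_sum]
  congr 1
  rw [← Fintype.prod_sum fun i (x : Fin N) => ex (((A (σ i) - B (τ i) : ℤ) : ℚ) * (x : ℕ) / N)]
  exact Finset.prod_congr rfl fun i _ => sum_ex _

lemma sum_all_self [NeZero N] (A : Fin r → ℤ) (hA : ∀ i j, (N : ℤ) ∣ A i - A j → i = j) :
    ∑ l : Fin r → Fin N, F N A A l = (r.factorial : ℂ) * (N : ℂ) ^ r := by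
  classical
  rw [sum_all A A rfl]
  have : ∀ σ : Equiv.Perm (Fin r), (∑ τ : Equiv.Perm (Fin r),
      (Equiv.Perm.sign σ : ℂ) * (Equiv.Perm.sign τ : ℂ) *
        ∏ i, if (N : ℤ) ∣ A (σ i) - A (τ i) then (N : ℂ) else 0) = (N : ℂ) ^ r := by
    intro σ
    rw [Finset.sum_eq_single σ]
    · have hs : (Equiv.Perm.sign σ : ℂ) * (Equiv.Perm.sign σ : ℂ) = 1 := by
        rcases Int.units_eq_one_or (Equiv.Perm.sign σ) with hs | hs <;> rw [hs] <;> simp
      simp [hs]
    · intro τ _ hne
      obtain ⟨i, hi⟩ : ∃ i, σ i ≠ τ i := by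
        by_contra! h
        exact hne (Equiv.ext fun i => (h i).symm)
      rw [Finset.prod_eq_zero (Finset.mem_univ i) (if_neg fun h => hi (hA _ _ h)), mul_zero]
    · simp
  simp [this, Finset.card_univ, Fintype.card_perm]

lemma sum_all_eq_mul_Z [NeZero N] (hr : r ≠ 0) (A B : Fin r → ℤ) (hAB : ∑ j, A j = ∑ j, B j) :
    (r : ℂ) * ∑ l : Fin r → Fin N, F N A B l = (N : ℂ) * ((r.factorial : ℂ) * Z N A B) := by
  classical
  rw [factorial_mul_Z]
  have hinv : ∀ l : Fin r → Fin N, F N A B (T l) = F N A B l := fun l => by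
    rw [F_shift hr, hAB, sub_self, zero_mul, Int.cast_zero, zero_div, ex_zero, mul_one]
  have hadd : ∀ (c : ℕ) (hc : c < N) (l : Fin r → Fin N),
      F N A B (fun i => l i + ⟨c, hc⟩) = F N A B l := by
    intro c
    induction c with
    | zero =>
      intro hc l
      congr 1
      funext i
      exact add_zero (l i)
    | succ c ih =>
      intro hc l
      rw [← ih (Nat.lt_of_succ_lt hc) l, ← hinv (fun i => l i + ⟨c, Nat.lt_of_succ_lt hc⟩)]
      congr 1
      funext i
      show _ = l i + ⟨c, Nat.lt_of_succ_lt hc⟩ + 1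
      rw [add_assoc]
      congr 1
      apply Fin.ext
      rw [Fin.val_add, Fin.val_one', Nat.add_mod_mod, Nat.mod_eq_of_lt hc]
  have hi : ∀ i : Fin r, ∑ l : Fin r → Fin N, F N A B l =
      (N : ℂ) * ∑ l : Fin r → Fin N, if (l i : ℕ) = 0 then F N A B l else 0 := by
    intro i
    have h1 : ∀ c : Fin N, (∑ l : Fin r → Fin N, if l i = c then F N A B l else 0) =
        ∑ l : Fin r → Fin N, if (l i : ℕ) = 0 then F N A B l else 0 := by
      intro c
      rw [← Equiv.sum_comp (Equiv.piCongrRight fun _ : Fin r => Equiv.addRight c)]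
      refine Finset.sum_congr rfl fun l _ => ?_
      have hc : (Equiv.piCongrRight (fun _ : Fin r => Equiv.addRight c)) l =
          fun j => l j + c := funext fun j => rfl
      rw [hc, show F N A B (fun j => l j + c) = F N A B l from hadd c.val c.isLt l]
      refine if_congr ?_ rfl rfl
      rw [add_eq_right, Fin.ext_iff, Fin.val_zero]
    calc ∑ l : Fin r → Fin N, F N A B l
        = ∑ l : Fin r → Fin N, ∑ c : Fin N, if l i = c then F N A B l else 0 := by simp
      _ = _ := by rw [Finset.sum_comm]; simp [h1]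
  calc (r : ℂ) * ∑ l : Fin r → Fin N, F N A B l
      = ∑ i : Fin r, ((N : ℂ) * ∑ l : Fin r → Fin N, if (l i : ℕ) = 0 then F N A B l else 0) := by
        rw [← Finset.sum_congr rfl fun i _ => hi i]; simp
    _ = _ := by
        rw [← Finset.mul_sum, Finset.sum_comm]
        congr 1
        refine Finset.sum_congr rfl fun l _ => ?_
        by_cases hl : Function.Injective l
        · split_ifs with hex
          · obtain ⟨i, hi⟩ := hex
            rw [Finset.sum_eq_single i, if_pos hi]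
            · intro j _ hne
              exact if_neg fun hj => hne (hl (Fin.ext (hj.trans hi.symm)))
            · simp
          · exact Finset.sum_eq_zero fun j _ => if_neg fun hj => hex ⟨j, hj⟩
        · simp [F_eq_zero A B l hl]

lemma Z_self [NeZero N] (hr : r ≠ 0) (A : Fin r → ℤ) (hA : ∀ i j, (N : ℤ) ∣ A i - A j → i = j) :
    (N : ℂ) * Z N A A = (r : ℂ) * (N : ℂ) ^ r := by
  have h := sum_all_eq_mul_Z (N := N) hr A A rfl
  rw [sum_all_self A hA] at h
  refine mul_left_cancel₀ (show (r.factorial : ℂ) ≠ 0 from Nat.cast_ne_zero.2 (Nat.factorial_ne_zero r)) ?_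
  linear_combination -h

/-- Orthogonality for decreasing tuples in the window `[0, N)`. -/
theorem Z_eq_zero [NeZero N] (hr : r ≠ 0) (A B : Fin r → ℤ) (hA : StrictAnti A) (hB : StrictAnti B)
    (hA0 : ∀ i, 0 ≤ A i ∧ A i < N) (hB0 : ∀ i, 0 ≤ B i ∧ B i < N)
    (hne : ¬ ∃ a : ℤ, ∀ i, A i - B i = a) : Z N A B = 0 := by
  classical
  by_cases hdvd : (r : ℤ) ∣ ∑ j, A j - ∑ j, B j
  swap
  · exact Z_eq_zero_of_not_dvd hr A B hdvd
  obtain ⟨a, ha⟩ := hdvd
  have hA' : ∑ j, (A j - a) = ∑ j, B j := by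
    rw [Finset.sum_sub_distrib]; simp; linarith
  have hF : ∀ l : Fin r → Fin N, F N A B l = F N (fun j => A j - a) B l := by
    intro l
    unfold F
    have h1 : (M N (fun j => A j - a) fun i => ((l i : ℕ) : ℤ)).det =
        ex (((∑ i, ((l i : ℕ) : ℤ)) * -a : ℤ) / N) * (M N A fun i => ((l i : ℕ) : ℤ)).det := by
      rw [det_M_comm, det_M_comm A]
      exact det_M_add_const _ A (-a)
    rw [hA', sub_self, zero_mul, Int.cast_zero, neg_zero, zero_div, ex_zero, one_mul, h1, ha]
    have he : ex (-((((r : ℤ) * a) * ∑ i, ((l i : ℕ) : ℤ) : ℤ) : ℚ) / (r * N)) =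
        ex ((((∑ i, ((l i : ℕ) : ℤ)) * -a : ℤ) : ℚ) / N) := by
      have hrq : (r : ℚ) ≠ 0 := Nat.cast_ne_zero.2 hr
      have hN : (N : ℚ) ≠ 0 := Nat.cast_ne_zero.2 (NeZero.ne N)
      congr 1
      push_cast
      field_simp
    rw [he]
    ring
  have hzero : ∑ l : Fin r → Fin N, F N (fun j => A j - a) B l = 0 := by
    rw [sum_all _ _ hA']
    refine Finset.sum_eq_zero fun σ _ => Finset.sum_eq_zero fun τ _ => ?_
    by_contra hne0
    have hall : ∀ i, (N : ℤ) ∣ A (σ i) - a - B (τ i) := fun i => by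
      by_contra hd
      exact hne0 (by rw [Finset.prod_eq_zero (Finset.mem_univ i) (if_neg hd), mul_zero])
    choose m hm using hall
    have hsum : ∑ i, m i = 0 := by
      have h1 : ∑ i, (A (σ i) - a - B (τ i)) = ∑ i, (N : ℤ) * m i :=
        Finset.sum_congr rfl fun i _ => hm i
      rw [Finset.sum_sub_distrib, Equiv.sum_comp σ (fun i => A i - a), Equiv.sum_comp τ B, hA',
        sub_self, ← Finset.mul_sum] at h1
      exact (mul_eq_zero.1 h1.symm).resolve_left (by exact_mod_cast NeZero.ne N)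
    have hNpos : (0 : ℤ) < N := by have := NeZero.ne N; omega
    have hm0 : ∀ i, m i = 0 := by
      rcases le_total 0 a with ha0 | ha0
      · have hle : ∀ i, m i ≤ 0 := fun i => by
          have h1 := hA0 (σ i); have h2 := hB0 (τ i); have h3 := hm i
          nlinarith
        exact fun i => (Finset.sum_eq_zero_iff_of_nonpos fun i _ => hle i).1 hsum i (Finset.mem_univ i)
      · have hle : ∀ i, 0 ≤ m i := fun i => by
          have h1 := hA0 (σ i); have h2 := hB0 (τ i); have h3 := hm i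
          nlinarith
        exact fun i => (Finset.sum_eq_zero_iff_of_nonneg fun i _ => hle i).1 hsum i (Finset.mem_univ i)
    refine hne ⟨a, ?_⟩
    let π : Equiv.Perm (Fin r) := σ.symm.trans τ
    have hπ : ∀ j, A j - a = B (π j) := fun j => by
      have h3 := hm (σ.symm j)
      rw [hm0, mul_zero, Equiv.apply_symm_apply] at h3
      show A j - a = B (τ (σ.symm j))
      omega
    have hmono : StrictMono π := fun i j hij => hB.lt_iff_gt.1 (by
      have := hA hij; rw [← hπ i, ← hπ j]; omega)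
    have hid : (π : Fin r → Fin r) = id := by
      refine Set.range_injOn_strictMono hmono strictMono_id ?_
      rw [π.surjective.range_eq, Set.range_id]
    intro i
    have := hπ i
    rw [show π i = i from congrFun hid i] at this
    omega
  have hcongr : Z N A B = Z N (fun j => A j - a) B := by
    unfold Z; exact Finset.sum_congr rfl fun s _ => hF s
  rw [hcongr]
  have h := sum_all_eq_mul_Z (N := N) hr (fun j => A j - a) B hA'
  rw [hzero, mul_zero, eq_comm, mul_eq_zero, mul_eq_zero] at h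
  rcases h with h | h | h
  · exact absurd (Nat.cast_eq_zero.1 h) (NeZero.ne N)
  · exact absurd (Nat.cast_eq_zero.1 h) (Nat.factorial_ne_zero r)
  · exact h

end Groth.Agent.H25Verl
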