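import Groth.Agent.H25Verl.Core

/-! The Schur-polynomial identities behind the Verlinde formula. -/

set_option autoImplicit false

namespace Groth.Agent.H25Verl
open Finset

variable {r N : ℕ}

/-- Value of a natural-valued tuple as integers. -/
abbrev iv (v : Fin r → ℕ) : Fin r → ℤ := fun i => (v i : ℤ)

/-- `δ_i = r-1-i`. -/
abbrev dl (r : ℕ) : Fin r → ℤ := fun i => ((r - 1 - (i : ℕ) : ℕ) : ℤ)

/-- The sine product. -/
noncomputable def P (N : ℕ) (v : Fin r → ℤ) : ℝ :=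
  ∏ p ∈ (Finset.univ : Finset (Fin r × Fin r)).filter (fun p => p.1 < p.2),
    ((2 : ℝ) * Real.sin (Real.pi * ((v p.1 : ℝ) - (v p.2 : ℝ)) / N)) ^ 2

lemma two_sub_ex (q : ℚ) :
    (ex q - 1) * (ex (-q) - 1) = ((((2 : ℝ) * Real.sin (Real.pi * (q : ℝ))) ^ 2 : ℝ) : ℂ) := by
  have h1 : ex q * ex (-q) = 1 := by rw [← ex_add, add_neg_cancel, ex_zero]
  have h2 := Complex.two_cos (2 * Real.pi * (q : ℂ))
  have e1 : ex q = Complex.exp ((2 * Real.pi * (q : ℂ)) * Complex.I) := by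
    unfold ex; congr 1; ring
  have e2 : ex (-q) = Complex.exp (-(2 * Real.pi * (q : ℂ)) * Complex.I) := by
    unfold ex; congr 1; push_cast; ring
  rw [← e1, ← e2] at h2
  have h3 : Complex.cos (2 * Real.pi * (q : ℂ)) = 1 - 2 * Complex.sin (Real.pi * (q : ℂ)) ^ 2 := by
    rw [show (2 * Real.pi * (q : ℂ)) = 2 * ((Real.pi : ℂ) * q) by ring, Complex.cos_two_mul,
      Complex.cos_sq']
    ring
  rw [h3] at h2
  push_cast
  linear_combination h1 + h2

lemma det_vander (v : Fin r → ℤ) :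
    (M N v fun i => ((i : ℕ) : ℤ)).det = ∏ i : Fin r, ∏ j ∈ Finset.Ioi i,
      (ex ((v j : ℚ) / N) - ex ((v i : ℚ) / N)) := by
  rw [← Matrix.det_vandermonde, ← Matrix.det_transpose]
  congr 1
  ext i j
  simp only [M, Matrix.transpose_apply, Matrix.of_apply, Matrix.vandermonde_apply]
  rw [← ex_nat_mul]
  congr 1
  push_cast; ring

lemma det_mul_det_eq_P (v : Fin r → ℤ) :
    (M N v fun i => ((i : ℕ) : ℤ)).det * (M N (fun j => -v j) fun i => ((i : ℕ) : ℤ)).det =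
      (P N v : ℂ) := by
  rw [det_vander, det_vander, ← Finset.prod_mul_distrib, P, Complex.ofReal_prod]
  have : ∀ i : Fin r, ((∏ j ∈ Finset.Ioi i, (ex ((v j : ℚ) / N) - ex ((v i : ℚ) / N))) *
      ∏ j ∈ Finset.Ioi i, (ex (((-v j : ℤ) : ℚ) / N) - ex (((-v i : ℤ) : ℚ) / N))) =
      ∏ j ∈ Finset.Ioi i, ((((2 : ℝ) * Real.sin (Real.pi * ((v i : ℝ) - (v j : ℝ)) / N)) ^ 2 : ℝ) : ℂ) := by
    intro i
    rw [← Finset.prod_mul_distrib]
    refine Finset.prod_congr rfl fun j _ => ?_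
    have h := two_sub_ex (((v i : ℚ) - v j) / N)
    rw [show (((((v i : ℚ) - v j) / N : ℚ)) : ℝ) = ((v i : ℝ) - v j) / N by push_cast; ring] at h
    rw [mul_div_assoc, ← h,
      show ((v i : ℚ) - v j) / N = (v i : ℚ) / N + ((-v j : ℤ) : ℚ) / N by push_cast; ring,
      show -((v i : ℚ) / N + ((-v j : ℤ) : ℚ) / N) = (v j : ℚ) / N + ((-v i : ℤ) : ℚ) / N by
        push_cast; ring,
      ex_add, ex_add]
    have a1 : ex ((v i : ℚ) / N) * ex (((-v i : ℤ) : ℚ) / N) = 1 := by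
      rw [← ex_add]; convert ex_zero using 2; push_cast; ring
    have a2 : ex ((v j : ℚ) / N) * ex (((-v j : ℤ) : ℚ) / N) = 1 := by
      rw [← ex_add]; convert ex_zero using 2; push_cast; ring
    linear_combination a2 + a1 - (ex ((v j : ℚ) / N) * ex (((-v j : ℤ) : ℚ) / N)) * a1 - a2
  simp only [this]
  rw [Finset.prod_finset_product' (γ := Fin r) (r := (Finset.univ : Finset (Fin r × Fin r)).filter
    (fun p => p.1 < p.2)) (s := Finset.univ) (t := fun i => Finset.Ioi i) (f := fun i j =>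
      ((((2 : ℝ) * Real.sin (Real.pi * ((v i : ℝ) - (v j : ℝ)) / N)) ^ 2 : ℝ) : ℂ))]
  simp

lemma det_dl (v : Fin r → ℤ) :
    (M N v (dl r)).det = (Equiv.Perm.sign (Fin.revPerm : Equiv.Perm (Fin r)) : ℂ) *
      (M N v fun i => ((i : ℕ) : ℤ)).det := by
  rw [← det_M_perm]
  congr 2
  funext i
  simp only [dl, Function.comp, Fin.revPerm_apply, Fin.val_rev]
  omega

lemma det_idx_neg (v : Fin r → ℤ) :
    (M N v fun i => ((i : ℕ) : ℤ)).det = ex (((∑ j, v j) * ((r : ℤ) - 1) : ℤ) / N) *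
      (Equiv.Perm.sign (Fin.revPerm : Equiv.Perm (Fin r)) : ℂ) *
        (M N (fun j => -v j) fun i => ((i : ℕ) : ℤ)).det := by
  have := det_M_reflect (N := N) v (fun i : Fin r => ((i : ℕ) : ℤ)) ((r : ℤ) - 1)
  rw [show (fun i : Fin r => ((r : ℤ) - 1) - (((Fin.rev i : Fin r) : ℕ) : ℤ)) = fun i : Fin r => ((i : ℕ) : ℤ) from
    funext fun i => by have := i.isLt; rw [Fin.val_rev]; omega] at this
  rw [this]; ring

lemma sgn_mul (σ : Equiv.Perm (Fin r)) :
    (Equiv.Perm.sign σ : ℂ) * (Equiv.Perm.sign σ : ℂ) = 1 := by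
  rcases Int.units_eq_one_or (Equiv.Perm.sign σ) with hs | hs <;> rw [hs] <;> simp

/-- `Δ² = ε e((r-1)∑v/N) P`. -/
lemma det_dl_sq (v : Fin r → ℤ) :
    (M N v (dl r)).det * (M N v (dl r)).det =
      (Equiv.Perm.sign (Fin.revPerm : Equiv.Perm (Fin r)) : ℂ) *
        ex (((∑ j, v j) * ((r : ℤ) - 1) : ℤ) / N) * (P N v : ℂ) := by
  have hs := sgn_mul (Fin.revPerm : Equiv.Perm (Fin r))
  rw [det_dl, ← det_mul_det_eq_P]
  have h := det_idx_neg (N := N) v
  linear_combination ((M N v fun i => ((i : ℕ) : ℤ)).det * (M N v fun i => ((i : ℕ) : ℤ)).det) * hs +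
    (M N v fun i => ((i : ℕ) : ℤ)).det * h

lemma ex_inj_window {a b : ℤ} (ha : 0 ≤ a ∧ a < N) (hb : 0 ≤ b ∧ b < N)
    (h : ex ((a : ℚ) / N) = ex ((b : ℚ) / N)) : a = b := by
  have hN : (N : ℚ) ≠ 0 := by
    have : (0 : ℤ) < N := by omega
    exact_mod_cast this.ne'
  have h1 : ex (((a - b : ℤ) : ℚ) / N) = 1 := by
    rw [show ((a - b : ℤ) : ℚ) / N = (a : ℚ) / N + -((b : ℚ) / N) by push_cast; ring, ex_add, h,
      ← ex_add, add_neg_cancel, ex_zero]
  obtain ⟨m, hm⟩ := (ex_eq_one_iff _).1 h1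
  rw [div_eq_iff hN] at hm
  have hm' : a - b = m * N := by exact_mod_cast hm
  rcases lt_trichotomy m 0 with hm0 | hm0 | hm0
  · nlinarith
  · rw [hm0, zero_mul] at hm'; omega
  · nlinarith

lemma P_ne_zero (v : Fin r → ℤ) (hv : Function.Injective v) (h0 : ∀ i, 0 ≤ v i ∧ v i < N) :
    (P N v : ℂ) ≠ 0 ∧ (M N v (dl r)).det ≠ 0 := by
  have h1 : (M N v fun i => ((i : ℕ) : ℤ)).det ≠ 0 := by
    rw [det_vander]
    refine Finset.prod_ne_zero_iff.2 fun i _ => Finset.prod_ne_zero_iff.2 fun j hj h => ?_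
    exact (Finset.mem_Ioi.1 hj).ne' (hv (ex_inj_window (h0 j) (h0 i) (sub_eq_zero.1 h)))
  have h2 : (M N v (dl r)).det ≠ 0 := by
    rw [det_dl]
    exact mul_ne_zero (left_ne_zero_of_mul_eq_one (sgn_mul _)) h1
  refine ⟨fun h => mul_ne_zero h2 h2 ?_, h2⟩
  rw [det_dl_sq, h, mul_zero]

/-- The Schur value as a quotient of alternants. -/
noncomputable def schur (N : ℕ) (μ v : Fin r → ℤ) : ℂ :=
  (M N v fun i => μ i + dl r i).det / (M N v (dl r)).det

lemma cexp_eq (_hN : N ≠ 0) (v : ℕ) :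
    Complex.exp (2 * Real.pi * Complex.I * (v : ℂ) / (N : ℂ)) = ex (((v : ℤ) : ℚ) / N) := by
  unfold ex
  congr 1
  push_cast
  ring

lemma schur_eq (k : ℕ) (hN : r + k ≠ 0) (v : Fin r → ℕ) (μ : Fin r → ℕ) (z : Fin r → ℂ)
    (hz : ∀ j, z j = Complex.exp (2 * Real.pi * Complex.I * (v j : ℂ) / ((r : ℂ) + k))) :
    (Matrix.of fun i j : Fin r => z j ^ (μ i + (r - 1 - (i : ℕ)))).det /
        (Matrix.of fun i j : Fin r => z j ^ (r - 1 - (i : ℕ))).det = schur (r + k) (iv μ) (iv v) := by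
  have hz' : ∀ j, z j = ex (((v j : ℤ) : ℚ) / (r + k : ℕ)) := fun j => by
    rw [hz, ← cexp_eq hN, Nat.cast_add]
  have key : ∀ a : Fin r → ℕ, (Matrix.of fun i j : Fin r => z j ^ (a i)) =
      M (r + k) (iv v) (fun i => (a i : ℤ)) := fun a => by
    ext i j
    simp only [Matrix.of_apply, M, iv]
    rw [hz', ← ex_nat_mul]
    congr 1
    push_cast; ring
  rw [schur, key, key]
  congr 3

lemma sum_iv (v : Fin r → ℕ) : ∑ j, iv v j = ((∑ j, v j : ℕ) : ℤ) := by simp [iv]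

/-- `S_μ S_{μ*} = e(k ∑v / N) det det / P`. -/
lemma schur_mul_dual (k : ℕ) (v : Fin r → ℤ) (μ : Fin r → ℕ) (hμ : ∀ i, μ i ≤ k)
    (hP : (P (r + k) v : ℂ) ≠ 0) :
    schur (r + k) (iv μ) v * schur (r + k) (iv fun i => k - μ (Fin.rev i)) v =
      ex (((∑ j, v j) * (k : ℤ) : ℤ) / (r + k : ℕ)) *
        ((M (r + k) v fun i => iv μ i + dl r i).det *
          (M (r + k) (fun j => -v j) fun i => iv μ i + dl r i).det) / (P (r + k) v : ℂ) := by
  have h := det_M_reflect (N := r + k) v (fun i => iv μ i + dl r i) (((r + k : ℕ) : ℤ) - 1)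
  rw [show (fun i : Fin r => (((r + k : ℕ) : ℤ) - 1) - (iv μ (Fin.rev i) + dl r (Fin.rev i))) =
      fun i => iv (fun i => k - μ (Fin.rev i)) i + dl r i from funext fun i => by
    have := hμ (Fin.rev i); have := i.isLt
    simp only [iv, dl, Fin.val_rev]; omega] at h
  rw [schur, schur, div_mul_div_comm, det_dl_sq, h]
  have he : ex (((∑ j, v j) * (((r + k : ℕ) : ℤ) - 1) : ℤ) / (r + k : ℕ)) =
      ex (((∑ j, v j) * (k : ℤ) : ℤ) / (r + k : ℕ)) *
        ex (((∑ j, v j) * ((r : ℤ) - 1) : ℤ) / (r + k : ℕ)) := by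
    rw [← ex_add]; congr 1; push_cast; ring
  have hs := left_ne_zero_of_mul_eq_one (sgn_mul (Fin.revPerm : Equiv.Perm (Fin r)))
  have hd := ex_ne_zero (((∑ j, v j) * ((r : ℤ) - 1) : ℤ) / (r + k : ℕ))
  rw [he]
  field_simp

/-- Natural-valued exponents of a decreasing tuple. -/
def toPart {N : ℕ} (l : Fin r → Fin N) (i : Fin r) : ℕ := (l i : ℕ) - (r - 1 - (i : ℕ))

lemma strictAnti_ge {N : ℕ} {l : Fin r → Fin N} (hl : StrictAnti l) (i : Fin r) :
    r - 1 - (i : ℕ) ≤ (l i : ℕ) := by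
  suffices ∀ d (i : Fin r), r - 1 - (i : ℕ) = d → d ≤ (l i : ℕ) from this _ i rfl
  intro d
  induction d with
  | zero => simp
  | succ d ih =>
    intro i hi
    have := ih ⟨(i : ℕ) + 1, by omega⟩ (by simp; omega)
    have h2 : (l ⟨(i : ℕ) + 1, by omega⟩ : ℕ) < (l i : ℕ) := hl (Fin.lt_def.2 (by simp))
    omega

lemma strictAnti_le {N : ℕ} {l : Fin r → Fin N} (hl : StrictAnti l) (i : Fin r) :
    (l i : ℕ) + (i : ℕ) < N := by
  suffices ∀ d (i : Fin r), (i : ℕ) = d → (l i : ℕ) + d < N from this _ i rfl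
  intro d
  induction d with
  | zero => intro i _; simp
  | succ d ih =>
    intro i hi
    have := ih ⟨d, by omega⟩ rfl
    have h2 : (l i : ℕ) < (l ⟨d, by omega⟩ : ℕ) := hl (Fin.lt_def.2 (by simp; omega))
    omega

lemma toPart_add {N : ℕ} {l : Fin r → Fin N} (hl : StrictAnti l) :
    (fun i => iv (toPart l) i + dl r i) = fun i => ((l i : ℕ) : ℤ) := by
  funext i
  have := strictAnti_ge hl i
  simp only [iv, dl, toPart]
  omega

lemma toPart_antitone {N : ℕ} {l : Fin r → Fin N} (hl : StrictAnti l) : Antitone (toPart l) := by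
  suffices ∀ d (i j : Fin r), (j : ℕ) = (i : ℕ) + d → toPart l j ≤ toPart l i from
    fun i j hij => this ((j : ℕ) - i) i j (by have : (i : ℕ) ≤ j := hij; omega)
  intro d
  induction d with
  | zero => intro i j h; rw [show j = i from Fin.ext (by omega)]
  | succ d ih =>
    intro i j h
    have h1 := ih i ⟨(i : ℕ) + d, by omega⟩ rfl
    refine le_trans ?_ h1
    have h2 : (l j : ℕ) < (l ⟨(i : ℕ) + d, by omega⟩ : ℕ) := hl (Fin.lt_def.2 (by simp; omega))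
    have := strictAnti_ge hl j
    simp only [toPart] at *
    omega

/-- Partitions in a box against decreasing tuples. -/
lemma sum_box (r k m : ℕ) (hm : m ≤ k + 1) (G : (Fin r → ℕ) → ℂ) :
    ∑ μ ∈ (Finset.univ : Finset (Fin r → Fin m)).filter (fun μ => Antitone μ), G (fun i => (μ i : ℕ)) =
      ∑ l ∈ (Finset.univ : Finset (Fin r → Fin (r + k))).filter
        (fun l : Fin r → Fin _ => StrictAnti l ∧ ∀ i, (l i : ℕ) + 1 < r + m), G (toPart l) := by
  refine Finset.sum_bij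
    (fun μ _ i => (⟨(μ i : ℕ) + (r - 1 - (i : ℕ)), by have := (μ i).isLt; have := i.isLt; omega⟩ : Fin (r + k)))
    (fun μ hμ => ?_) (fun μ _ μ' _ h => ?_) (fun l hl => ?_) (fun μ hμ => ?_)
  · simp only [mem_filter, mem_univ, true_and] at hμ ⊢
    refine ⟨fun i j hij => ?_, fun i => by have := (μ i).isLt; have := i.isLt; omega⟩
    have h1 : (μ j : ℕ) ≤ (μ i : ℕ) := hμ hij.le
    have h2 : (i : ℕ) < (j : ℕ) := hij
    rw [Fin.lt_def]
    have := j.isLt
    show (μ j : ℕ) + (r - 1 - (j : ℕ)) < (μ i : ℕ) + (r - 1 - (i : ℕ))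
    omega
  · funext i
    have := congrArg Fin.val (congrFun h i)
    simp at this
    exact Fin.ext this
  · simp only [mem_filter, mem_univ, true_and] at hl
    have hlt : ∀ i, toPart l i < m := fun i => by
      have h1 := strictAnti_ge hl.1 i
      have hr : 0 < r := by have := i.isLt; omega
      have hmono := toPart_antitone hl.1 (show (⟨0, hr⟩ : Fin r) ≤ i from Fin.le_def.2 (Nat.zero_le _))
      have h2 := hl.2 ⟨0, hr⟩
      have h3 := strictAnti_ge hl.1 ⟨0, hr⟩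
      simp only [toPart] at hmono ⊢
      simp at hmono h3
      omega
    refine ⟨fun i => ⟨toPart l i, hlt i⟩, ?_, ?_⟩
    · simp only [mem_filter, mem_univ, true_and]
      exact fun i j hij => Fin.le_def.2 (toPart_antitone hl.1 hij)
    · funext i
      apply Fin.ext
      have := strictAnti_ge hl.1 i
      simp only [toPart]
      omega
  · congr 1
    funext i
    simp [toPart]

lemma exists_zero_iff {N : ℕ} (hr : 1 ≤ r) {l : Fin r → Fin N} (hl : StrictAnti l) :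
    (∀ i : Fin r, (i : ℕ) = r - 1 → (l i : ℕ) = 0) ↔ ∃ i, (l i : ℕ) = 0 := by
  refine ⟨fun h => ⟨⟨r - 1, by omega⟩, h _ rfl⟩, fun ⟨j, hj⟩ i hi => ?_⟩
  rcases eq_or_lt_of_le (show j ≤ i from Fin.le_def.2 (by have := j.isLt; omega)) with rfl | hlt
  · exact hj
  · have : (l i : ℕ) < (l j : ℕ) := hl hlt
    omega

lemma Z_eq_sum {N : ℕ} (hr : 1 ≤ r) (A B : Fin r → ℤ) :
    ∑ l ∈ (Finset.univ : Finset (Fin r → Fin N)).filter
      (fun l : Fin r → Fin N => StrictAnti l ∧ ∀ i : Fin r, (i : ℕ) = r - 1 → (l i : ℕ) = 0), F N A B l = Z N A B := by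
  unfold Z
  refine Finset.sum_congr (Finset.filter_congr fun l _ => ?_) fun l _ => rfl
  exact and_congr_right fun h => exists_zero_iff hr h

lemma F_self {N : ℕ} (A : Fin r → ℤ) (l : Fin r → Fin N) :
    F N A A l = (M N A fun i => ((l i : ℕ) : ℤ)).det * (M N (fun j => -A j) fun i => ((l i : ℕ) : ℤ)).det := by
  simp [F, ex_zero]

theorem sum_sin (r k : ℕ) (hr : 1 ≤ r) (hk : 1 ≤ k) :
    (∑ v ∈ (Finset.univ : Finset (Fin r → Fin (r + k))).filter
        (fun v : Fin r → Fin (r + k) => StrictAnti v ∧ ∀ i : Fin r, (i : ℕ) = r - 1 → (v i : ℕ) = 0),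
      ∏ p ∈ (Finset.univ : Finset (Fin r × Fin r)).filter (fun p => p.1 < p.2),
        ((2 : ℝ) * Real.sin (Real.pi * ((v p.1 : ℕ) - (v p.2 : ℕ) : ℝ) / ((r : ℝ) + k))) ^ 2) =
      (r : ℝ) * ((r : ℝ) + k) ^ (r - 1) := by
  have : NeZero (r + k) := ⟨by omega⟩
  have hZ := Z_self (N := r + k) (r := r) (by omega) (fun i => ((i : ℕ) : ℤ)) (fun i j h => by
    obtain ⟨m, hm⟩ := h
    have := i.isLt; have := j.isLt
    refine Fin.ext ?_
    have hi : ((i : ℕ) : ℤ) < r := by exact_mod_cast i.isLt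
    have hj : ((j : ℕ) : ℤ) < r := by exact_mod_cast j.isLt
    push_cast at hm
    rcases lt_trichotomy m 0 with hm0 | hm0 | hm0
    · nlinarith
    · rw [hm0, mul_zero] at hm; omega
    · nlinarith)
  rw [← Z_eq_sum hr] at hZ
  have hF : ∀ l : Fin r → Fin (r + k), F (r + k) (fun i => ((i : ℕ) : ℤ)) (fun i => ((i : ℕ) : ℤ)) l =
      ((∏ p ∈ (Finset.univ : Finset (Fin r × Fin r)).filter (fun p => p.1 < p.2),
        ((2 : ℝ) * Real.sin (Real.pi * ((l p.1 : ℕ) - (l p.2 : ℕ) : ℝ) / ((r : ℝ) + k))) ^ 2 : ℝ) : ℂ) := by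
    intro l
    rw [F_self, det_M_comm, det_M_comm (fun j : Fin r => -((j : ℕ) : ℤ))]
    have e : (M (r + k) (fun i => ((l i : ℕ) : ℤ)) fun j => -((j : ℕ) : ℤ)) =
        M (r + k) (fun i => -((l i : ℕ) : ℤ)) fun j => ((j : ℕ) : ℤ) := by
      ext i j; simp [M]
    rw [e, det_mul_det_eq_P, P]
    simp
  simp only [hF] at hZ
  rw [← Complex.ofReal_sum] at hZ
  have hN : (0 : ℝ) < (r : ℝ) + k := by positivity
  refine mul_left_cancel₀ hN.ne' ?_
  apply Complex.ofReal_injective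
  have hpow : ((r : ℂ) + k) ^ r = ((r : ℂ) + k) * ((r : ℂ) + k) ^ (r - 1) := by
    rw [← pow_succ', Nat.sub_add_cancel hr]
  push_cast at hZ ⊢
  rw [hpow] at hZ
  linear_combination hZ

lemma sum_no_top (N : ℕ) [NeZero N] (hr : r ≠ 0) (A : Fin r → ℤ)
    (hA : ∀ i j, (N : ℤ) ∣ A i - A j → i = j) :
    (N : ℂ) * ∑ l ∈ (Finset.univ : Finset (Fin r → Fin N)).filter
        (fun l : Fin r → Fin _ => StrictAnti l ∧ ∀ i, (l i : ℕ) + 1 < N), F N A A l =
      ((N : ℂ) - r) * (N : ℂ) ^ r := by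
  classical
  have h1 := sum_all_self A hA
  rw [sum_strictAnti _ (F_perm A A) (F_eq_zero A A)] at h1
  have h1' := mul_left_cancel₀ (show (r.factorial : ℂ) ≠ 0 from Nat.cast_ne_zero.2 (Nat.factorial_ne_zero r)) h1
  have h2 : (r.factorial : ℂ) * ∑ l ∈ (Finset.univ : Finset (Fin r → Fin N)).filter
      (fun l : Fin r → Fin _ => StrictAnti l ∧ ∃ i, (l i : ℕ) + 1 = N), F N A A l = (r.factorial : ℂ) * Z N A A := by
    rw [factorial_mul_Z, ← Equiv.sum_comp (T (r := r) (N := N))]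
    have hiff : ∀ l : Fin r → Fin N, (∃ i, ((T l i : Fin N) : ℕ) = 0) ↔ ∃ i, (l i : ℕ) + 1 = N :=
      fun l => exists_congr fun i => by
        have := T_val l i
        have hlt := (l i).isLt
        split_ifs at this <;> omega
    have hinv : ∀ l : Fin r → Fin N, F N A A (T l) = F N A A l := fun l => by
      rw [F_shift hr, sub_self, zero_mul, Int.cast_zero, zero_div, ex_zero, mul_one]
    rw [show (∑ l : Fin r → Fin N, if ∃ i, ((T l i : Fin N) : ℕ) = 0 then F N A A (T l) else 0) =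
      ∑ l : Fin r → Fin N, if ∃ i, (l i : ℕ) + 1 = N then F N A A l else 0 from
      Finset.sum_congr rfl fun l _ => if_congr (hiff l) (hinv l) rfl]
    rw [sum_strictAnti (fun l => if ∃ i, (l i : ℕ) + 1 = N then F N A A l else 0)]
    · congr 1
      rw [Finset.sum_filter, Finset.sum_filter]
      refine Finset.sum_congr rfl fun s _ => ?_
      by_cases h : StrictAnti s <;> simp [h]
    · intro l σ
      simp only [F_perm]
      exact if_congr ⟨fun ⟨i, hi⟩ => ⟨σ i, hi⟩, fun ⟨i, hi⟩ => ⟨σ.symm i, by simpa using hi⟩⟩ rfl rfl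
    · intro l h
      simp [F_eq_zero A A l h]
  have h2' := mul_left_cancel₀ (show (r.factorial : ℂ) ≠ 0 from Nat.cast_ne_zero.2 (Nat.factorial_ne_zero r)) h2
  have h3 := Finset.sum_filter_add_sum_filter_not
    ((Finset.univ : Finset (Fin r → Fin N)).filter fun l : Fin r → Fin N => StrictAnti l)
    (fun l => ∀ i, (l i : ℕ) + 1 < N) (F N A A)
  rw [Finset.filter_filter, Finset.filter_filter] at h3
  have e : (Finset.univ : Finset (Fin r → Fin N)).filter (fun l : Fin r → Fin _ => StrictAnti l ∧ ¬ ∀ i, (l i : ℕ) + 1 < N) =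
      (Finset.univ : Finset (Fin r → Fin N)).filter (fun l : Fin r → Fin _ => StrictAnti l ∧ ∃ i, (l i : ℕ) + 1 = N) :=
    Finset.filter_congr fun l _ => and_congr_right fun _ => by
      rw [not_forall]
      exact exists_congr fun i => by have := (l i).isLt; omega
  rw [e] at h3
  have hZ := Z_self hr A hA
  rw [h1', h2'] at h3
  linear_combination (N : ℂ) * h3 - hZ

lemma window_inj {N : ℕ} {A : Fin r → ℤ} (hA : Function.Injective A) (h0 : ∀ i, 0 ≤ A i ∧ A i < N) :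
    ∀ i j, (N : ℤ) ∣ A i - A j → i = j := fun i j h => by
  obtain ⟨m, hm⟩ := h
  have := h0 i; have := h0 j
  refine hA ?_
  rcases lt_trichotomy m 0 with hm0 | hm0 | hm0
  · nlinarith
  · rw [hm0, mul_zero] at hm; omega
  · nlinarith

/-- `∑_μ S_μ S_{μ*} = e(k∑v/N) k N^{r-1} / P`. -/
lemma sum_schur_dual (r k : ℕ) (hr : 1 ≤ r) (hk : 1 ≤ k) (v : Fin r → ℕ) (hv : Function.Injective v)
    (hvlt : ∀ i, v i < r + k) :
    ∑ μ ∈ (Finset.univ : Finset (Fin r → Fin k)).filter (fun μ : Fin r → Fin k => Antitone μ),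
      schur (r + k) (iv fun i => (μ i : ℕ)) (iv v) *
        schur (r + k) (iv fun i => k - (μ (Fin.rev i) : ℕ)) (iv v) =
      ex (((∑ j, iv v j) * (k : ℤ) : ℤ) / (r + k : ℕ)) * ((k : ℂ) * ((r : ℂ) + k) ^ (r - 1)) /
        (P (r + k) (iv v) : ℂ) := by
  have : NeZero (r + k) := ⟨by omega⟩
  have hvi : Function.Injective (iv v) := fun i j h => hv (Int.ofNat_inj.1 h)
  have h0 : ∀ i, 0 ≤ iv v i ∧ iv v i < (r + k : ℕ) :=
    fun i => ⟨Int.natCast_nonneg _, Int.ofNat_lt.2 (hvlt i)⟩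
  obtain ⟨hP, -⟩ := P_ne_zero (iv v) hvi h0
  rw [sum_box r k k (Nat.le_succ k) (fun μ => schur (r + k) (iv μ) (iv v) *
    schur (r + k) (iv fun i => k - μ (Fin.rev i)) (iv v))]
  have hterm : ∀ l ∈ (Finset.univ : Finset (Fin r → Fin (r + k))).filter
      (fun l : Fin r → Fin _ => StrictAnti l ∧ ∀ i, (l i : ℕ) + 1 < r + k),
      schur (r + k) (iv (toPart l)) (iv v) *
          schur (r + k) (iv fun i => k - toPart l (Fin.rev i)) (iv v) =
        ex (((∑ j, iv v j) * (k : ℤ) : ℤ) / (r + k : ℕ)) / (P (r + k) (iv v) : ℂ) *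
          F (r + k) (iv v) (iv v) l := by
    intro l hl
    simp only [mem_filter, mem_univ, true_and] at hl
    rw [schur_mul_dual k (iv v) (toPart l) (fun i => ?_) hP, toPart_add hl.1, F_self]
    · ring
    · have h1 := strictAnti_ge hl.1 i
      have h2 := strictAnti_le hl.1 i
      simp only [toPart]
      have := i.isLt
      omega
  rw [Finset.sum_congr rfl hterm, ← Finset.mul_sum]
  have hs := sum_no_top (r + k) (r := r) (by omega) (iv v) (window_inj hvi h0)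
  have hN : ((r : ℂ) + k) ≠ 0 := by
    rw [← Nat.cast_add, Nat.cast_ne_zero]; omega
  have hpow : ((r : ℂ) + k) ^ r = ((r : ℂ) + k) * ((r : ℂ) + k) ^ (r - 1) := by
    rw [← pow_succ', Nat.sub_add_cancel hr]
  set S := ∑ l ∈ (Finset.univ : Finset (Fin r → Fin (r + k))).filter
      (fun l : Fin r → Fin _ => StrictAnti l ∧ ∀ i, (l i : ℕ) + 1 < r + k), F (r + k) (iv v) (iv v) l
  have hS : S = (k : ℂ) * ((r : ℂ) + k) ^ (r - 1) := by
    refine mul_left_cancel₀ hN ?_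
    push_cast at hs
    rw [hpow] at hs
    linear_combination hs
  rw [hS]
  ring

lemma P_eq (r k : ℕ) (v : Fin r → ℕ) :
    (∏ p ∈ (Finset.univ : Finset (Fin r × Fin r)).filter (fun p => p.1 < p.2),
      ((2 : ℝ) * Real.sin (Real.pi * ((v p.1 : ℝ) - (v p.2 : ℝ)) / ((r : ℝ) + k))) ^ 2) =
      P (r + k) (iv v) := by
  simp [P, iv]

lemma phase_eq (r k : ℕ) (v : Fin r → ℕ) :
    Complex.exp (2 * Real.pi * Complex.I * (k : ℂ) * ((∑ j, v j : ℕ) : ℂ) / ((r : ℂ) + k)) =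
      ex (((∑ j, iv v j) * (k : ℤ) : ℤ) / (r + k : ℕ)) := by
  rw [sum_iv]
  unfold ex
  congr 1
  push_cast
  ring

theorem schur_sum (r k : ℕ) (hr : 1 ≤ r) (hk : 1 ≤ k)
    (v : Fin r → ℕ) (hv : StrictAnti v) (hvlt : ∀ i, v i < r + k)
    (z : Fin r → ℂ) (hz : ∀ j, z j = Complex.exp (2 * Real.pi * Complex.I * (v j : ℂ) / ((r : ℂ) + k)))
    (S : (Fin r → ℕ) → ℂ)
    (hS : ∀ μ : Fin r → ℕ, S μ =
      (Matrix.of fun i j : Fin r => z j ^ (μ i + (r - 1 - (i : ℕ)))).det /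
        (Matrix.of fun i j : Fin r => z j ^ (r - 1 - (i : ℕ))).det) :
    (∑ μ ∈ (Finset.univ : Finset (Fin r → Fin k)).filter (fun μ : Fin r → Fin k => Antitone μ),
        S (fun i => (μ i : ℕ)) * S (fun i => k - (μ (Fin.rev i) : ℕ))) =
      Complex.exp (2 * Real.pi * Complex.I * (k : ℂ) * ((∑ j, v j : ℕ) : ℂ) / ((r : ℂ) + k)) *
        ((k : ℂ) * ((r : ℂ) + k) ^ (r - 1)) /
        (∏ p ∈ (Finset.univ : Finset (Fin r × Fin r)).filter (fun p => p.1 < p.2),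
          (((2 : ℝ) * Real.sin (Real.pi * ((v p.1 : ℝ) - (v p.2 : ℝ)) / ((r : ℝ) + k))) ^ 2 : ℝ) : ℂ) := by
  simp only [hS, schur_eq k (by omega) v _ z hz]
  rw [sum_schur_dual r k hr hk v hv.injective hvlt, ← Complex.ofReal_prod, P_eq, phase_eq]

theorem twisted_schur_sum (r k : ℕ) (hr : 1 ≤ r)
    (hk : 1 ≤ k) (v v' : Fin r → ℕ) (hv : StrictAnti v) (hvlt : ∀ i, v i < r + k) (hv' : StrictAnti v')
    (hv'lt : ∀ i, v' i < r + k) (hne : ¬ ∃ a : ℤ, ∀ i, (v i : ℤ) - (v' i : ℤ) = a)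
    (z z' : Fin r → ℂ) (hz : ∀ j, z j = Complex.exp (2 * Real.pi * Complex.I * (v j : ℂ) / ((r : ℂ) + k)))
    (hz' : ∀ j, z' j = Complex.exp (2 * Real.pi * Complex.I * (v' j : ℂ) / ((r : ℂ) + k)))
    (S S' : (Fin r → ℕ) → ℂ)
    (hS : ∀ μ : Fin r → ℕ, S μ =
      (Matrix.of fun i j : Fin r => z j ^ (μ i + (r - 1 - (i : ℕ)))).det /
        (Matrix.of fun i j : Fin r => z j ^ (r - 1 - (i : ℕ))).det)
    (hS' : ∀ μ : Fin r → ℕ, S' μ =
      (Matrix.of fun i j : Fin r => z' j ^ (μ i + (r - 1 - (i : ℕ)))).det /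
        (Matrix.of fun i j : Fin r => z' j ^ (r - 1 - (i : ℕ))).det) :
    (∑ μ ∈ (Finset.univ : Finset (Fin r → Fin (k + 1))).filter
        (fun μ : Fin r → Fin (k + 1) => Antitone μ ∧ ∀ i : Fin r, (i : ℕ) = r - 1 → (μ i : ℕ) = 0),
      Complex.exp (-(2 * Real.pi * Complex.I * ((∑ i, (μ i : ℕ) : ℕ) : ℂ) * ((∑ j, v j : ℕ) : ℂ) /
          ((r : ℂ) * ((r : ℂ) + k)))) *
      Complex.exp (-(2 * Real.pi * Complex.I * ((∑ i, (k - (μ (Fin.rev i) : ℕ)) : ℕ) : ℂ) *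
          ((∑ j, v' j : ℕ) : ℂ) / ((r : ℂ) * ((r : ℂ) + k)))) *
      S (fun i => (μ i : ℕ)) * S' (fun i => k - (μ (Fin.rev i) : ℕ))) = 0 := by
  classical
  have : NeZero (r + k) := ⟨by omega⟩
  simp only [hS, hS', schur_eq k (by omega) v _ z hz, schur_eq k (by omega) v' _ z' hz']
  let G : (Fin r → ℕ) → ℂ := fun μ => if ∀ i : Fin r, (i : ℕ) = r - 1 → μ i = 0 then
    Complex.exp (-(2 * Real.pi * Complex.I * ((∑ i, μ i : ℕ) : ℂ) * ((∑ j, v j : ℕ) : ℂ) /
        ((r : ℂ) * ((r : ℂ) + k)))) *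
      Complex.exp (-(2 * Real.pi * Complex.I * ((∑ i, (k - μ (Fin.rev i)) : ℕ) : ℂ) *
          ((∑ j, v' j : ℕ) : ℂ) / ((r : ℂ) * ((r : ℂ) + k)))) *
      schur (r + k) (iv μ) (iv v) * schur (r + k) (iv fun i => k - μ (Fin.rev i)) (iv v') else 0
  have hG : ∀ μ : Fin r → Fin (k + 1), G (fun i => (μ i : ℕ)) =
      if ∀ i : Fin r, (i : ℕ) = r - 1 → (μ i : ℕ) = 0 then _ else 0 := fun μ => rfl
  rw [← Finset.filter_filter, Finset.sum_filter]
  refine Eq.trans (Finset.sum_congr rfl fun μ _ => (hG μ).symm) ?_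
  rw [sum_box r k (k + 1) le_rfl G]
  obtain ⟨C, hC⟩ : ∃ C : ℂ, ∀ l : Fin r → Fin (r + k), StrictAnti l →
      G (toPart l) = (if ∀ i : Fin r, (i : ℕ) = r - 1 → (l i : ℕ) = 0 then
        C * F (r + k) (iv v) (iv v') l else 0) := by
    refine ⟨ex ((((∑ j, iv v j) - ∑ j, iv v' j) * ∑ i, dl r i : ℤ) / (r * (r + k : ℕ) : ℚ)) *
      ex (-(((r : ℤ) * k * ∑ j, iv v' j : ℤ) : ℚ) / (r * (r + k : ℕ))) *
      ((Equiv.Perm.sign (Fin.revPerm : Equiv.Perm (Fin r)) : ℂ) *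
        ex (((∑ j, iv v' j) * (((r + k : ℕ) : ℤ) - 1) : ℤ) / (r + k : ℕ))) /
      ((M (r + k) (iv v) (dl r)).det * (M (r + k) (iv v') (dl r)).det), fun l hl => ?_⟩
    have hiff : (∀ i : Fin r, (i : ℕ) = r - 1 → toPart l i = 0) ↔
        ∀ i : Fin r, (i : ℕ) = r - 1 → (l i : ℕ) = 0 :=
      forall_congr' fun i => imp_congr_right fun hi => by simp only [toPart]; omega
    simp only [G, hiff]
    split_ifs
    · have hle : ∀ i, toPart l i ≤ k := fun i => by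
        have h1 := strictAnti_ge hl i; have h2 := strictAnti_le hl i
        have := i.isLt
        simp only [toPart]; omega
      have h := det_M_reflect (N := r + k) (iv v') (fun i => iv (toPart l) i + dl r i) (((r + k : ℕ) : ℤ) - 1)
      rw [show (fun i : Fin r => (((r + k : ℕ) : ℤ) - 1) - (iv (toPart l) (Fin.rev i) + dl r (Fin.rev i))) =
          fun i => iv (fun i => k - toPart l (Fin.rev i)) i + dl r i from funext fun i => by
        have := hle (Fin.rev i); have := i.isLt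
        simp only [iv, dl, Fin.val_rev]; omega, toPart_add hl] at h
      have s1 : (((∑ i, toPart l i : ℕ)) : ℤ) = (∑ i, ((l i : ℕ) : ℤ)) - ∑ i, dl r i := by
        rw [← sum_iv, ← Finset.sum_sub_distrib]
        exact Finset.sum_congr rfl fun i _ => eq_sub_of_add_eq (congrFun (toPart_add hl) i)
      have s2 : (((∑ i, (k - toPart l (Fin.rev i)) : ℕ)) : ℤ) =
          (r : ℤ) * k - ((∑ i, ((l i : ℕ) : ℤ)) - ∑ i, dl r i) := by
        rw [← s1, Nat.cast_sum, Nat.cast_sum]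
        simp only [Nat.cast_sub (hle _)]
        rw [Finset.sum_sub_distrib, Fin.rev_bijective.sum_comp (fun i => (toPart l i : ℤ))]
        simp
      have hp : Complex.exp (-(2 * Real.pi * Complex.I * ((∑ i, toPart l i : ℕ) : ℂ) *
            ((∑ j, v j : ℕ) : ℂ) / ((r : ℂ) * ((r : ℂ) + k)))) *
          Complex.exp (-(2 * Real.pi * Complex.I * ((∑ i, (k - toPart l (Fin.rev i)) : ℕ) : ℂ) *
            ((∑ j, v' j : ℕ) : ℂ) / ((r : ℂ) * ((r : ℂ) + k)))) =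
          ex ((((∑ j, iv v j) - ∑ j, iv v' j) * ∑ i, dl r i : ℤ) / (r * (r + k : ℕ) : ℚ)) *
            ex (-(((r : ℤ) * k * ∑ j, iv v' j : ℤ) : ℚ) / (r * (r + k : ℕ))) *
            ex (-((((∑ j, iv v j) - ∑ j, iv v' j) * ∑ i, ((l i : ℕ) : ℤ) : ℤ) : ℚ) / (r * (r + k : ℕ))) := by
        have s1' : ((∑ i, toPart l i : ℕ) : ℂ) =
            (((∑ i, ((l i : ℕ) : ℤ)) - ∑ i, dl r i : ℤ) : ℂ) := by rw [← s1, Int.cast_natCast]
        have s2' : ((∑ i, (k - toPart l (Fin.rev i)) : ℕ) : ℂ) =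
            (((r : ℤ) * k - ((∑ i, ((l i : ℕ) : ℤ)) - ∑ i, dl r i) : ℤ) : ℂ) := by
          rw [← s2, Int.cast_natCast]
        rw [← ex_add, ← ex_add, sum_iv, sum_iv, s1', s2', ← Complex.exp_add]
        unfold ex
        congr 1
        push_cast
        ring
      rw [hp]
      simp only [schur, F]
      rw [h, toPart_add hl]
      ring
    · rfl
  rw [Finset.sum_congr rfl fun l hl => hC l (Finset.mem_filter.1 hl).2.1, ← Finset.sum_filter,
    Finset.filter_filter, ← Finset.mul_sum]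
  have hfil : (Finset.univ : Finset (Fin r → Fin (r + k))).filter (fun l : Fin r → Fin (r + k) =>
      (StrictAnti l ∧ ∀ i, (l i : ℕ) + 1 < r + (k + 1)) ∧ ∀ i : Fin r, (i : ℕ) = r - 1 → (l i : ℕ) = 0) =
      (Finset.univ : Finset (Fin r → Fin (r + k))).filter
        (fun l : Fin r → Fin _ => StrictAnti l ∧ ∀ i : Fin r, (i : ℕ) = r - 1 → (l i : ℕ) = 0) :=
    Finset.filter_congr fun l _ =>
      ⟨fun h => ⟨h.1.1, h.2⟩, fun h => ⟨⟨h.1, fun i => by have := (l i).isLt; omega⟩, h.2⟩⟩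
  rw [hfil, Z_eq_sum hr, Z_eq_zero (by omega) (iv v) (iv v')
    (fun i j h => Int.ofNat_lt.2 (hv h)) (fun i j h => Int.ofNat_lt.2 (hv' h))
    (fun i => ⟨Int.natCast_nonneg _, Int.ofNat_lt.2 (hvlt i)⟩)
    (fun i => ⟨Int.natCast_nonneg _, Int.ofNat_lt.2 (hv'lt i)⟩) hne, mul_zero]

theorem twisted_pair (r k : ℕ) (hr : 2 ≤ r)
    (hk : 1 ≤ k) (lam lam' : Fin r → ℕ) (hlam : Antitone lam) (hlamk : ∀ i, lam i ≤ k)
    (hlam' : Antitone lam') (hlam'k : ∀ i, lam' i ≤ k)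
    (hne : ¬ ∃ a : ℤ, ∀ i, (lam i : ℤ) - ((k - lam' (Fin.rev i) : ℕ) : ℤ) = a)
    (z : (Fin r → ℕ) → Fin r → ℂ)
    (hz : ∀ v j, z v j = Complex.exp (2 * Real.pi * Complex.I * (v j : ℂ) / ((r : ℂ) + k)))
    (S : (Fin r → ℕ) → (Fin r → ℕ) → ℂ)
    (hS : ∀ μ v, S μ v = (Matrix.of fun i j : Fin r => z v j ^ (μ i + (r - 1 - (i : ℕ)))).det /
        (Matrix.of fun i j : Fin r => z v j ^ (r - 1 - (i : ℕ))).det)
    (Pf : (Fin r → ℕ) → ℝ)
    (hP : ∀ v, Pf v = ∏ p ∈ (Finset.univ : Finset (Fin r × Fin r)).filter (fun p => p.1 < p.2),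
        ((2 : ℝ) * Real.sin (Real.pi * ((v p.1 : ℝ) - (v p.2 : ℝ)) / ((r : ℝ) + k))) ^ 2) :
    (∑ v ∈ (Finset.univ : Finset (Fin r → Fin (r + k))).filter
        (fun v : Fin r → Fin (r + k) => StrictAnti v ∧ ∀ i : Fin r, (i : ℕ) = r - 1 → (v i : ℕ) = 0),
      Complex.exp (-(2 * Real.pi * Complex.I * (((∑ i, lam i) + (∑ i, lam' i) : ℕ) : ℂ) *
          ((∑ j, (v j : ℕ) : ℕ) : ℂ) / ((r : ℂ) * ((r : ℂ) + k)))) *
        S lam (fun j => (v j : ℕ)) * S lam' (fun j => (v j : ℕ)) * (Pf (fun j => (v j : ℕ)) : ℂ)) = 0 := by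
  classical
  have : NeZero (r + k) := ⟨by omega⟩
  obtain ⟨A, hA⟩ : ∃ A : Fin r → ℤ, A = fun i => iv lam i + dl r i := ⟨_, rfl⟩
  obtain ⟨B, hB⟩ : ∃ B : Fin r → ℤ, B = fun i => iv (fun i => k - lam' (Fin.rev i)) i + dl r i := ⟨_, rfl⟩
  have hAs : StrictAnti A := fun i j h => by
    have h1 := hlam h.le; have h2 : (i : ℕ) < j := h; have := j.isLt
    simp only [hA, iv, dl]; omega
  have hBs : StrictAnti B := fun i j h => by
    have h1 := hlam' (Fin.rev_le_rev.2 h.le); have h2 : (i : ℕ) < j := h; have := j.isLt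
    simp only [hB, iv, dl]; omega
  have hterm : ∀ v ∈ (Finset.univ : Finset (Fin r → Fin (r + k))).filter
        (fun v : Fin r → Fin (r + k) => StrictAnti v ∧ ∀ i : Fin r, (i : ℕ) = r - 1 → (v i : ℕ) = 0),
      Complex.exp (-(2 * Real.pi * Complex.I * (((∑ i, lam i) + (∑ i, lam' i) : ℕ) : ℂ) *
          ((∑ j, (v j : ℕ) : ℕ) : ℂ) / ((r : ℂ) * ((r : ℂ) + k)))) *
        S lam (fun j => (v j : ℕ)) * S lam' (fun j => (v j : ℕ)) * (Pf (fun j => (v j : ℕ)) : ℂ) =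
      F (r + k) A B v := by
    intro v hv
    simp only [mem_filter, mem_univ, true_and] at hv
    rw [hS, hS, schur_eq k (by omega) (fun j => (v j : ℕ)) _ _ (hz _),
      schur_eq k (by omega) (fun j => (v j : ℕ)) _ _ (hz _), hP, P_eq r k (fun j => (v j : ℕ))]
    set vv : Fin r → ℤ := iv fun j => (v j : ℕ) with hvv
    have hvi : Function.Injective vv := fun i j h => hv.1.injective (Fin.ext (Int.ofNat_inj.1 h))
    obtain ⟨hPne, hdne⟩ := P_ne_zero (N := r + k) vv hvi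
      (fun i => ⟨Int.natCast_nonneg _, Int.ofNat_lt.2 (v i).isLt⟩)
    have hb : (fun i => iv lam' i + dl r i) = fun i => (((r + k : ℕ) : ℤ) - 1) - B (Fin.rev i) := by
      funext i
      have := hlam'k i; have := i.isLt
      simp only [hB, iv, dl, Fin.rev_rev, Fin.val_rev]; omega
    have h := det_M_reflect (N := r + k) vv B (((r + k : ℕ) : ℤ) - 1)
    rw [← hb] at h
    have hnegB : (M (r + k) (fun j => -vv j) B).det = (M (r + k) (fun j => -B j) vv).det := by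
      rw [det_M_comm]
      congr 1
      ext i j; simp [M]
    have hphase : Complex.exp (-(2 * Real.pi * Complex.I * (((∑ i, lam i) + (∑ i, lam' i) : ℕ) : ℂ) *
          ((∑ j, (v j : ℕ) : ℕ) : ℂ) / ((r : ℂ) * ((r : ℂ) + k)))) *
        ex (((∑ j, vv j) * (((r + k : ℕ) : ℤ) - 1) : ℤ) / (r + k : ℕ)) =
        ex (-(((∑ j, A j - ∑ j, B j) * ∑ j, vv j : ℤ) : ℚ) / (r * (r + k : ℕ))) *
          ex (((∑ j, vv j) * ((r : ℤ) - 1) : ℤ) / (r + k : ℕ)) := by
      have hAB : ∑ j, A j - ∑ j, B j = ((∑ i, lam i : ℕ) : ℤ) + ((∑ i, lam' i : ℕ) : ℤ) - r * k := by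
        simp only [hA, hB, Finset.sum_add_distrib, iv]
        simp only [Nat.cast_sum, Nat.cast_sub (hlam'k _)]
        rw [Finset.sum_sub_distrib, Fin.rev_bijective.sum_comp (fun i => (lam' i : ℤ))]
        simp
        ring
      rw [hAB, hvv, sum_iv, ← ex_add]
      unfold ex
      rw [← Complex.exp_add]
      congr 1
      have hr0 : (r : ℂ) ≠ 0 := Nat.cast_ne_zero.2 (by omega)
      have hN0 : (r : ℂ) + k ≠ 0 := by rw [← Nat.cast_add, Nat.cast_ne_zero]; omega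
      push_cast
      field_simp
      ring
    have hsq := det_dl_sq (N := r + k) vv
    simp only [schur]
    rw [h, hnegB, F, show (fun i => ((v i : ℕ) : ℤ)) = vv from rfl, ← hA]
    rw [det_M_comm A vv]
    set eAB := ex (-(((∑ j, A j - ∑ j, B j) * ∑ j, vv j : ℤ) : ℚ) / (r * (r + k : ℕ))) with heAB
    rw [div_eq_mul_inv (M (r + k) vv A).det, div_eq_mul_inv]
    field_simp
    set dA := (M (r + k) vv A).det
    set dB := (M (r + k) (fun j => -B j) vv).det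
    set sg := (Equiv.Perm.sign (Fin.revPerm : Equiv.Perm (Fin r)) : ℂ)
    linear_combination (dA * dB * sg * (P (r + k) vv : ℂ)) * hphase -
      (eAB * dA * dB) * hsq
  rw [Finset.sum_congr rfl hterm, Z_eq_sum (by omega), Z_eq_zero (by omega) A B hAs hBs]
  · exact fun i => by have := hlamk i; have := i.isLt; simp only [hA, iv, dl]; omega
  · exact fun i => by have := i.isLt; simp only [hB, iv, dl]; omega
  · rintro ⟨a, ha⟩
    exact hne ⟨a, fun i => by have := ha i; simp only [hA, hB, iv, dl] at this; omega⟩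

theorem verlinde_succ (r k : ℕ) (hr : 1 ≤ r) (hk : 1 ≤ k)
    (g : ℕ) (d : ℤ) (ι : Type) [Fintype ι] (lam : ι → Fin r → ℕ)
    (z : (Fin r → ℕ) → Fin r → ℂ)
    (hz : ∀ v j, z v j = Complex.exp (2 * Real.pi * Complex.I * (v j : ℂ) / ((r : ℂ) + k)))
    (S : (Fin r → ℕ) → (Fin r → ℕ) → ℂ)
    (hS : ∀ μ v, S μ v = (Matrix.of fun i j : Fin r => z v j ^ (μ i + (r - 1 - (i : ℕ)))).det /
        (Matrix.of fun i j : Fin r => z v j ^ (r - 1 - (i : ℕ))).det)
    (Pf : (Fin r → ℕ) → ℝ)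
    (hP : ∀ v, Pf v = ∏ p ∈ (Finset.univ : Finset (Fin r × Fin r)).filter (fun p => p.1 < p.2),
        ((2 : ℝ) * Real.sin (Real.pi * ((v p.1 : ℝ) - (v p.2 : ℝ)) / ((r : ℝ) + k))) ^ 2)
    (V : ℕ → ℤ → ℕ → ((Fin r → ℕ) → ℂ) → ℂ)
    (hV : ∀ (g' : ℕ) (d' : ℤ) (w : ℕ) (Sω : (Fin r → ℕ) → ℂ), V g' d' w Sω =
        (-1 : ℂ) ^ (d' * ((r : ℤ) - 1)) * ((k : ℂ) / r) ^ g' *
          ((((r : ℂ) * ((r : ℂ) + k) ^ (r - 1)) ^ g') / ((r : ℂ) * ((r : ℂ) + k) ^ (r - 1))) *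
          ∑ v ∈ (Finset.univ : Finset (Fin r → Fin (r + k))).filter
            (fun v : Fin r → Fin (r + k) => StrictAnti v ∧ ∀ i : Fin r, (i : ℕ) = r - 1 → (v i : ℕ) = 0),
            Complex.exp (2 * Real.pi * Complex.I * ((d' : ℂ) / r - (w : ℂ) / ((r : ℂ) * ((r : ℂ) + k))) *
                ((∑ j, (v j : ℕ) : ℕ) : ℂ)) *
              Sω (fun j => (v j : ℕ)) *
              (((Pf (fun j => (v j : ℕ)) : ℂ)) / ((Pf (fun j => (v j : ℕ)) : ℂ)) ^ g')) :
    V (g + 1) d (∑ x, ∑ i, lam x i) (fun v => ∏ x, S (lam x) v) =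
      ∑ μ ∈ (Finset.univ : Finset (Fin r → Fin k)).filter (fun μ : Fin r → Fin k => Antitone μ),
        V g d ((∑ x, ∑ i, lam x i) + (∑ i, (μ i : ℕ)) + (∑ i, (k - (μ (Fin.rev i) : ℕ))))
          (fun v => (∏ x, S (lam x) v) * S (fun i => (μ i : ℕ)) v *
            S (fun i => k - (μ (Fin.rev i) : ℕ)) v) := by
  simp only [hV]
  have hw : ∀ μ : Fin r → Fin k, (∑ i, (μ i : ℕ)) + (∑ i, (k - (μ (Fin.rev i) : ℕ))) = r * k := by
    intro μ
    rw [← Fin.rev_bijective.sum_comp (fun i => (μ i : ℕ)), ← Finset.sum_add_distrib]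
    calc ∑ i : Fin r, ((μ (Fin.rev i) : ℕ) + (k - (μ (Fin.rev i) : ℕ)))
        = ∑ _i : Fin r, k := Finset.sum_congr rfl fun i _ => by have := (μ (Fin.rev i)).isLt; omega
      _ = r * k := by simp
  have hw' : ∀ μ : Fin r → Fin k, (∑ x, ∑ i, lam x i) + (∑ i, (μ i : ℕ)) +
      (∑ i, (k - (μ (Fin.rev i) : ℕ))) = (∑ x, ∑ i, lam x i) + r * k := fun μ => by
    rw [add_assoc, hw]
  simp only [hw']
  conv_rhs => rw [← Finset.mul_sum, Finset.sum_comm]
  rw [Finset.mul_sum, Finset.mul_sum]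
  refine Finset.sum_congr rfl fun v hv => ?_
  simp only [mem_filter, mem_univ, true_and] at hv
  have hinj : Function.Injective (fun j => (v j : ℕ)) :=
    fun i j h => hv.1.injective (Fin.ext h)
  have hsum := sum_schur_dual r k hr hk (fun j => (v j : ℕ)) hinj (fun i => (v i).isLt)
  have hS' : ∀ μ : Fin r → ℕ, S μ (fun j => (v j : ℕ)) = schur (r + k) (iv μ) (iv fun j => (v j : ℕ)) :=
    fun μ => by rw [hS, schur_eq k (by omega) (fun j => (v j : ℕ)) μ _ (hz _)]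
  have hPne : (Pf (fun j => (v j : ℕ)) : ℂ) ≠ 0 := by
    rw [hP, P_eq r k (fun j => (v j : ℕ))]
    exact (P_ne_zero _ (fun i j h => hinj (Int.ofNat_inj.1 h))
      (fun i => ⟨Int.natCast_nonneg _, Int.ofNat_lt.2 (v i).isLt⟩)).1
  rw [← P_eq, ← hP (fun j => (v j : ℕ)), ← phase_eq] at hsum
  simp only [← hS'] at hsum
  set Sv : ℂ := ((∑ j, (v j : ℕ) : ℕ) : ℂ)
  set W : ℂ := ((∑ x, ∑ i, lam x i : ℕ) : ℂ) with hW
  set c := Pf (fun j => (v j : ℕ))
  set Pr := ∏ x, S (lam x) (fun j => (v j : ℕ))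
  have hfac : ∀ μ : Fin r → Fin k,
      Complex.exp (2 * Real.pi * Complex.I * ((d : ℂ) / r -
          (((∑ x, ∑ i, lam x i) + r * k : ℕ) : ℂ) / ((r : ℂ) * ((r : ℂ) + k))) * Sv) *
        (Pr * S (fun i => (μ i : ℕ)) (fun j => (v j : ℕ)) *
          S (fun i => k - (μ (Fin.rev i) : ℕ)) (fun j => (v j : ℕ))) * ((c : ℂ) / (c : ℂ) ^ g) =
      (Complex.exp (2 * Real.pi * Complex.I * ((d : ℂ) / r -
          (((∑ x, ∑ i, lam x i) + r * k : ℕ) : ℂ) / ((r : ℂ) * ((r : ℂ) + k))) * Sv) * Pr *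
          ((c : ℂ) / (c : ℂ) ^ g)) *
        (S (fun i => (μ i : ℕ)) (fun j => (v j : ℕ)) *
          S (fun i => k - (μ (Fin.rev i) : ℕ)) (fun j => (v j : ℕ))) := fun μ => by ring
  simp only [hfac]
  rw [← Finset.mul_sum, hsum]
  have hr0 : (r : ℂ) ≠ 0 := Nat.cast_ne_zero.2 (by omega)
  have hN0 : (r : ℂ) + k ≠ 0 := by rw [← Nat.cast_add, Nat.cast_ne_zero]; omega
  have he : Complex.exp (2 * Real.pi * Complex.I * ((d : ℂ) / r -
        (((∑ x, ∑ i, lam x i) + r * k : ℕ) : ℂ) / ((r : ℂ) * ((r : ℂ) + k))) * Sv) *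
      Complex.exp (2 * Real.pi * Complex.I * (k : ℂ) * Sv / ((r : ℂ) + k)) =
      Complex.exp (2 * Real.pi * Complex.I * ((d : ℂ) / r - W / ((r : ℂ) * ((r : ℂ) + k))) * Sv) := by
    rw [← Complex.exp_add, Nat.cast_add, ← hW, Nat.cast_mul]
    congr 1
    field_simp
    ring
  rw [← he]
  simp only [pow_succ, div_pow, mul_pow]
  field_simp

end Groth.Agent.H25Verl
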